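import Groth.Agent.Hens.SmoothPrime
import Groth.Agent.Hens.BranchCore
import Groth.Agent.Hens.Local
import Groth.Agent.Hensel.EtLike
import Groth.Agent.S9460

/-!
# Minimal primes of strict henselizations of smooth algebras
-/

set_option autoImplicit false
set_option linter.style.haveILetI false
set_option backward.isDefEq.respectTransparency.types false

universe u

open IsLocalRing TensorProduct
open Groth.Agent Groth.Agent.Hens Groth.Agent.Hens.SmoothPrime

namespace Groth.Agent.SmoothBr

/-- Primes of a strictly henselian local ring stay prime in strict henselizations of local rings of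
smooth algebras at points over the closed point. -/
theorem isPrime_map {R R' T : Type u} [CommRing R] [HenselianLocalRing R]
    [IsSepClosed (ResidueField R)] [CommRing R'] [Algebra R R'] [Algebra.Smooth R R']
    (q : Ideal R') [q.IsPrime] (hq : (maximalIdeal R).map (algebraMap R R') ≤ q)
    [CommRing T] [IsLocalRing T] [Algebra (Localization.AtPrime q) T]
    [IsLocalHom (algebraMap (Localization.AtPrime q) T)]
    [hT : _root_.Hensel.IsStrictHenselization (Localization.AtPrime q) T]
    [Algebra R T] [IsScalarTower R (Localization.AtPrime q) T]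
    (P : Ideal R) [P.IsPrime] : (P.map (algebraMap R T)).IsPrime := by
  let A := R ⧸ P
  have hΔm : P ≤ maximalIdeal R := IsLocalRing.le_maximalIdeal (Ideal.IsPrime.ne_top ‹P.IsPrime›)
  haveI : Nontrivial A := Ideal.Quotient.nontrivial_iff.2 (Ideal.IsPrime.ne_top ‹P.IsPrime›)
  haveI : IsLocalRing A := .of_surjective' (Ideal.Quotient.mk _) Ideal.Quotient.mk_surjective
  haveI : HenselianLocalRing A := AzInvLib.henselianLocalRing_of_surjective (Ideal.Quotient.mk P) Ideal.Quotient.mk_surjective
  haveI : IsLocalHom (Ideal.Quotient.mk P) := .of_surjective _ Ideal.Quotient.mk_surjective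
  haveI : IsSepClosed (ResidueField A) :=
    letI := (ResidueField.map (Ideal.Quotient.mk P)).toAlgebra
    haveI : Algebra.IsAlgebraic (ResidueField R) (ResidueField A) := ⟨fun y ↦ by
      obtain ⟨x, rfl⟩ := residue_surjective y
      obtain ⟨x, rfl⟩ := Ideal.Quotient.mk_surjective x
      exact isAlgebraic_algebraMap (residue R x)⟩
    AzInvLib.isSepClosed_of_isAlgebraic (ResidueField R) _
  let B := R' ⧸ P.map (algebraMap R R')
  haveI : Algebra.Smooth A B := by
    let e : (R ⧸ P) ⊗[R] R' ≃ₐ[R ⧸ P] B :=
      Algebra.TensorProduct.quotIdealMapEquivQuotTensor R' P |>.symm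
    exact Algebra.Smooth.of_equiv e
  let Δq := P.map (algebraMap R (Localization.AtPrime q))
  have hle : P.map (algebraMap R R') ≤ q := (Ideal.map_mono hΔm).trans hq
  let qb : Ideal B := q.map (Ideal.Quotient.mk _)
  haveI : qb.IsPrime := Ideal.map_isPrime_of_surjective Ideal.Quotient.mk_surjective (by rwa [Ideal.mk_ker])
  let I : Ideal (Localization.AtPrime q) := (P.map (algebraMap R R')).map (algebraMap R' _)
  let L := Localization.AtPrime q ⧸ I
  have hI : I ≤ maximalIdeal _ := by
    refine (Ideal.map_mono hle).trans (le_of_eq ?_)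
    exact Localization.AtPrime.map_eq_maximalIdeal
  haveI : Nontrivial L := Ideal.Quotient.nontrivial_iff.2 (ne_top_of_le_ne_top (maximalIdeal.isMaximal _).ne_top hI)
  haveI : IsLocalRing L := .of_surjective' (Ideal.Quotient.mk _) Ideal.Quotient.mk_surjective
  haveI : IsLocalization.AtPrime L qb := by
    have he : Algebra.algebraMapSubmonoid B q.primeCompl = qb.primeCompl := by
      ext x
      obtain ⟨r, rfl⟩ := Ideal.Quotient.mk_surjective x
      constructor
      · rintro ⟨y, hy, hyr⟩ hr
        obtain ⟨z, hz, hzr⟩ := (Ideal.mem_map_iff_of_surjective _ Ideal.Quotient.mk_surjective).1 hr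
        refine hy ?_
        have := Ideal.Quotient.eq.1 (hyr.trans hzr.symm)
        simpa using q.add_mem (hle this) hz
      · exact fun hr ↦ ⟨r, fun h ↦ hr (Ideal.mem_map_of_mem _ h), rfl⟩
    show IsLocalization qb.primeCompl L
    rw [← he]
    infer_instance
  letI : Algebra A L := ((algebraMap B L).comp (algebraMap A B)).toAlgebra
  haveI : IsScalarTower A B L := .of_algebraMap_eq' rfl
  obtain ⟨hd, hg⟩ := SmoothUnibranch.isDomain_and_isGeomUnibranch_of_smooth (A := A) (S := L) qb (by
    rw [show maximalIdeal A = (maximalIdeal R).map (Ideal.Quotient.mk _) from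
      (map_maximalIdeal_of_surjective _ Ideal.Quotient.mk_surjective).symm, Ideal.map_map]
    refine le_of_eq_of_le ?_ (Ideal.map_mono hq)
    rw [Ideal.map_map]
    rfl) (isGeomUnibranch_of_strictlyHenselian A)
  have hIT : I.map (algebraMap _ T) ≤ maximalIdeal T :=
    (Ideal.map_mono hI).trans (((local_hom_TFAE _).out 0 2 rfl rfl).mp ‹_›)
  haveI : Nontrivial (T ⧸ I.map (algebraMap _ T)) :=
    Ideal.Quotient.nontrivial_iff.2 (ne_top_of_le_ne_top (maximalIdeal.isMaximal _).ne_top hIT)
  haveI : IsLocalRing (T ⧸ I.map (algebraMap _ T)) := .of_surjective' (Ideal.Quotient.mk _) Ideal.Quotient.mk_surjective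
  haveI : IsLocalHom (algebraMap L (T ⧸ I.map (algebraMap _ T))) := ⟨fun x hx ↦ by
    obtain ⟨x, rfl⟩ := Ideal.Quotient.mk_surjective x
    haveI : IsLocalHom (Ideal.Quotient.mk (I.map (algebraMap _ T))) :=
      .of_surjective _ Ideal.Quotient.mk_surjective
    exact ((isUnit_of_map_unit (algebraMap _ T) _ (isUnit_of_map_unit (Ideal.Quotient.mk _) _ hx))).map _⟩
  haveI := isStrictHenselization_quotient (S := T) I
  have hdom : IsDomain (T ⧸ I.map (algebraMap _ T)) :=
    (S2750.result L _).mp ⟨inferInstance, hg⟩
  have hIT' : I.map (algebraMap _ T) = P.map (algebraMap R T) := by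
    simp only [I, Ideal.map_map]
    rw [← IsScalarTower.algebraMap_eq R R' (Localization.AtPrime q), ← IsScalarTower.algebraMap_eq]
  exact hIT' ▸ (Ideal.Quotient.isDomain_iff_prime _).1 hdom

/-- A strictly henselian local ring and the strict henselization of a smooth algebra over it have the
same minimal primes. -/
theorem encard_minimalPrimes {R R' T : Type u} [CommRing R] [HenselianLocalRing R]
    [IsSepClosed (ResidueField R)] [CommRing R'] [Algebra R R'] [Algebra.Smooth R R']
    (q : Ideal R') [q.IsPrime] (hq : (maximalIdeal R).map (algebraMap R R') ≤ q)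
    [CommRing T] [IsLocalRing T] [Algebra (Localization.AtPrime q) T]
    [IsLocalHom (algebraMap (Localization.AtPrime q) T)]
    [hT : _root_.Hensel.IsStrictHenselization (Localization.AtPrime q) T]
    [Algebra R T] [IsScalarTower R (Localization.AtPrime q) T] :
    (minimalPrimes R).encard = (minimalPrimes T).encard := by
  haveI : Module.Flat R (Localization.AtPrime q) :=
    haveI : Module.Flat R' (Localization.AtPrime q) := IsLocalization.flat _ q.primeCompl
    Module.Flat.trans R R' _
  haveI := (Hensel.isEtLike_of_isStrictHenselization (Localization.AtPrime q) T).flat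
  haveI : Module.Flat R T := Module.Flat.trans R (Localization.AtPrime q) T
  have key : ∀ P : minimalPrimes R, P.1.map (algebraMap R T) ∈ minimalPrimes T ∧
      (P.1.map (algebraMap R T)).comap (algebraMap R T) = P.1 := fun P => by
    haveI := P.2.1.1
    haveI := isPrime_map (T := T) q hq P.1
    obtain ⟨Q, hQ, hQle⟩ := Ideal.exists_minimalPrimes_le (bot_le : ⊥ ≤ P.1.map (algebraMap R T))
    haveI : IsLocalHom (algebraMap R (Localization.AtPrime q)) := ⟨fun a ha ↦ by
      by_contra h
      rw [IsScalarTower.algebraMap_apply R R' (Localization.AtPrime q)] at ha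
      exact (IsLocalization.AtPrime.isUnit_to_map_iff (Localization.AtPrime q) q _).mp ha
        (hq (Ideal.mem_map_of_mem _ ((mem_maximalIdeal a).mpr h)))⟩
    haveI : IsLocalHom (algebraMap R T) := by
      rw [IsScalarTower.algebraMap_eq R (Localization.AtPrime q) T]
      exact RingHom.isLocalHom_comp _ _
    haveI := Module.FaithfullyFlat.of_flat_of_isLocalHom (A := R) (B := T)
    have hc := Ideal.comap_map_eq_self_of_faithfullyFlat (B := T) P.1
    have h1 := Hens.comap_mem_minimalPrimes_of_flat (R := R) hQ
    have h2 : Q.comap (algebraMap R T) = P.1 := by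
      refine le_antisymm (hc ▸ Ideal.comap_mono hQle) (P.2.2 ⟨h1.1.1, bot_le⟩ (hc ▸ Ideal.comap_mono hQle))
    have h3 : P.1.map (algebraMap R T) ≤ Q := Ideal.map_le_iff_le_comap.2 h2.ge
    exact ⟨le_antisymm h3 hQle ▸ hQ, hc⟩
  let f : minimalPrimes R ≃ minimalPrimes T :=
    { toFun := fun P => ⟨_, (key P).1⟩
      invFun := fun Q => ⟨Q.1.comap (algebraMap R T), Hens.comap_mem_minimalPrimes_of_flat Q.2⟩
      left_inv := fun P => Subtype.ext (key P).2
      right_inv := fun Q => Subtype.ext (by
        have hle : (Q.1.comap (algebraMap R T)).map (algebraMap R T) ≤ Q.1 := Ideal.map_comap_le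
        have hm := (key ⟨_, Hens.comap_mem_minimalPrimes_of_flat Q.2⟩).1
        exact le_antisymm hle (Q.2.2 ⟨hm.1.1, bot_le⟩ hle)) }
  exact Set.encard_congr f

end Groth.Agent.SmoothBr
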