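import Groth.Agent.SmoothBr.Basic
import Groth.Agent.SmoothBr.Unibranch
import Groth.Agent.Hens.BranchUnibranch
import Groth.Agent.S13598
import Groth.Agent.S9237
import Groth.Agent.S9459

/-!
# Minimal primes of henselizations of smooth algebras
-/

set_option autoImplicit false
set_option linter.style.haveILetI false
set_option backward.isDefEq.respectTransparency.types false

universe u

open IsLocalRing TensorProduct
open Groth.Agent Groth.Agent.Hens Groth.Agent.EtStruct

namespace Groth.Agent.SmoothBr

/-- Over a prime of a henselian local ring there is only one minimal prime in the henselization of a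
smooth algebra at a point with purely inseparable residue field. -/
theorem subsingleton_minimalPrimes {R R' T : Type u} [CommRing R] [HenselianLocalRing R]
    [CommRing R'] [Algebra R R'] [Algebra.Smooth R R']
    (q : Ideal R') [q.IsPrime] (hq : (maximalIdeal R).map (algebraMap R R') ≤ q)
    [CommRing T] [IsLocalRing T] [Algebra (Localization.AtPrime q) T]
    [IsLocalHom (algebraMap (Localization.AtPrime q) T)]
    (hpi : PIResidue (algebraMap R (Localization.AtPrime q)))
    [hT : _root_.Hensel.IsHenselization (Localization.AtPrime q) T]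
    [Algebra R T] [IsScalarTower R (Localization.AtPrime q) T]
    (P : Ideal R) [P.IsPrime] : Subsingleton (minimalPrimes (T ⧸ P.map (algebraMap R T))) := by
  let A := R ⧸ P
  have hΔm : P ≤ maximalIdeal R := IsLocalRing.le_maximalIdeal (Ideal.IsPrime.ne_top ‹P.IsPrime›)
  haveI : Nontrivial A := Ideal.Quotient.nontrivial_iff.2 (Ideal.IsPrime.ne_top ‹P.IsPrime›)
  haveI : IsLocalRing A := .of_surjective' (Ideal.Quotient.mk _) Ideal.Quotient.mk_surjective
  haveI : HenselianLocalRing A := AzInvLib.henselianLocalRing_of_surjective (Ideal.Quotient.mk P) Ideal.Quotient.mk_surjective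
  haveI : IsLocalHom (Ideal.Quotient.mk P) := .of_surjective _ Ideal.Quotient.mk_surjective
  let B := R' ⧸ P.map (algebraMap R R')
  haveI : Algebra.Smooth A B := by
    let e : (R ⧸ P) ⊗[R] R' ≃ₐ[R ⧸ P] B :=
      Algebra.TensorProduct.quotIdealMapEquivQuotTensor R' P |>.symm
    exact Algebra.Smooth.of_equiv e
  let Δq := P.map (algebraMap R (Localization.AtPrime q))
  have hle : P.map (algebraMap R R') ≤ q := (Ideal.map_mono hΔm).trans hq
  let qb : Ideal B := q.map (Ideal.Quotient.mk _)
  haveI : qb.IsPrime := Ideal.map_isPrime_of_surjective Ideal.Quotient.mk_surjective (by rwa [Ideal.mk_ker])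
  let I : Ideal (Localization.AtPrime q) := (P.map (algebraMap R R')).map (algebraMap R' _)
  let L := Localization.AtPrime q ⧸ I
  have hI : I ≤ maximalIdeal _ := by
    refine (Ideal.map_mono hle).trans (le_of_eq ?_)
    exact Localization.AtPrime.map_eq_maximalIdeal
  haveI : Nontrivial L := Ideal.Quotient.nontrivial_iff.2 (ne_top_of_le_ne_top (maximalIdeal.isMaximal _).ne_top hI)
  haveI : IsLocalRing L := .of_surjective' (Ideal.Quotient.mk _) Ideal.Quotient.mk_surjective
  haveI : IsLocalization.AtPrime L qb := by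
    have he : Algebra.algebraMapSubmonoid B q.primeCompl = qb.primeCompl := by
      ext x
      obtain ⟨r, rfl⟩ := Ideal.Quotient.mk_surjective x
      constructor
      · rintro ⟨y, hy, hyr⟩ hr
        obtain ⟨z, hz, hzr⟩ := (Ideal.mem_map_iff_of_surjective _ Ideal.Quotient.mk_surjective).1 hr
        refine hy ?_
        have := Ideal.Quotient.eq.1 (hyr.trans hzr.symm)
        simpa using q.add_mem (hle this) hz
      · exact fun hr ↦ ⟨r, fun h ↦ hr (Ideal.mem_map_of_mem _ h), rfl⟩
    show IsLocalization qb.primeCompl L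
    rw [← he]
    infer_instance
  letI : Algebra A L := ((algebraMap B L).comp (algebraMap A B)).toAlgebra
  haveI : IsScalarTower A B L := .of_algebraMap_eq' rfl
  haveI : IsLocalRing (integralClosure A (FractionRing A)) :=
    Hens.isLocalRing_of_integral_domain A _
  have hpiA : PIResidue (algebraMap A L) := by
    intro m hm x
    obtain ⟨x, rfl⟩ := Ideal.Quotient.mk_surjective x
    haveI hm' : (m.comap (Ideal.Quotient.mk I)).IsMaximal :=
      Ideal.comap_isMaximal_of_surjective _ Ideal.Quotient.mk_surjective
    let ψ : Localization.AtPrime q ⧸ m.comap (Ideal.Quotient.mk I) →+* L ⧸ m :=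
      Ideal.quotientMap m (Ideal.Quotient.mk I) le_rfl
    obtain ⟨n, a, ha⟩ := hpi (m.comap (Ideal.Quotient.mk I)) x
    refine ⟨n, Ideal.Quotient.mk P a, ?_⟩
    have hchar : ringExpChar (L ⧸ m) = ringExpChar (Localization.AtPrime q ⧸ m.comap (Ideal.Quotient.mk I)) := by
      letI := Ideal.Quotient.field (m.comap (Ideal.Quotient.mk I))
      letI := Ideal.Quotient.field m
      haveI := expChar_of_injective_ringHom ψ.injective (ringExpChar (Localization.AtPrime q ⧸ m.comap (Ideal.Quotient.mk I)))
      exact ringExpChar.eq _ _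
    have h := congrArg ψ ha
    rw [map_pow, Ideal.quotientMap_mk, Ideal.quotientMap_mk] at h
    rw [hchar, ← h]
    rfl
  obtain ⟨hd, hg⟩ := SmoothBr.isDomain_and_isUnibranch_of_smooth (A := A) (S := L) qb (by
    rw [show maximalIdeal A = (maximalIdeal R).map (Ideal.Quotient.mk _) from
      (map_maximalIdeal_of_surjective _ Ideal.Quotient.mk_surjective).symm, Ideal.map_map]
    refine le_of_eq_of_le ?_ (Ideal.map_mono hq)
    rw [Ideal.map_map]
    rfl) inferInstance hpiA
  have hIT : I.map (algebraMap _ T) ≤ maximalIdeal T :=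
    (Ideal.map_mono hI).trans (((local_hom_TFAE _).out 0 2 rfl rfl).mp ‹_›)
  haveI : Nontrivial (T ⧸ I.map (algebraMap _ T)) :=
    Ideal.Quotient.nontrivial_iff.2 (ne_top_of_le_ne_top (maximalIdeal.isMaximal _).ne_top hIT)
  haveI : IsLocalRing (T ⧸ I.map (algebraMap _ T)) := .of_surjective' (Ideal.Quotient.mk _) Ideal.Quotient.mk_surjective
  haveI : IsLocalHom (algebraMap L (T ⧸ I.map (algebraMap _ T))) := ⟨fun x hx ↦ by
    obtain ⟨x, rfl⟩ := Ideal.Quotient.mk_surjective x
    haveI : IsLocalHom (Ideal.Quotient.mk (I.map (algebraMap _ T))) :=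
      .of_surjective _ Ideal.Quotient.mk_surjective
    exact ((isUnit_of_map_unit (algebraMap _ T) _ (isUnit_of_map_unit (Ideal.Quotient.mk _) _ hx))).map _⟩
  haveI := Groth.Agent.S13598.result (S := T) I hI
  have h1 := (Groth.Agent.S9237.result L (T ⧸ I.map (algebraMap _ T))).trans ((numBranches_eq_one_iff L).2 hg)
  have hIT' : I.map (algebraMap _ T) = P.map (algebraMap R T) := by
    simp only [I, Ideal.map_map]
    rw [← IsScalarTower.algebraMap_eq R R' (Localization.AtPrime q), ← IsScalarTower.algebraMap_eq]
  rw [← hIT']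
  exact (ENat.card_le_one_iff_subsingleton _).1 h1.le

/-- A henselian local ring and the henselization of a smooth algebra over it at a point with purely
inseparable residue field have the same number of minimal primes. -/
theorem encard_minimalPrimes_hensel {R R' T : Type u} [CommRing R] [HenselianLocalRing R]
    [CommRing R'] [Algebra R R'] [Algebra.Smooth R R']
    (q : Ideal R') [q.IsPrime] (hq : (maximalIdeal R).map (algebraMap R R') ≤ q)
    [CommRing T] [IsLocalRing T] [Algebra (Localization.AtPrime q) T]
    [IsLocalHom (algebraMap (Localization.AtPrime q) T)]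
    (hpi : PIResidue (algebraMap R (Localization.AtPrime q)))
    [hT : _root_.Hensel.IsHenselization (Localization.AtPrime q) T]
    [Algebra R T] [IsScalarTower R (Localization.AtPrime q) T] :
    (minimalPrimes R).encard = (minimalPrimes T).encard := by
  haveI : Module.Flat R (Localization.AtPrime q) :=
    haveI : Module.Flat R' (Localization.AtPrime q) := IsLocalization.flat _ q.primeCompl
    Module.Flat.trans R R' _
  haveI := (Hensel.isEtLike_of_isHenselization (Localization.AtPrime q) T).flat
  haveI : Module.Flat R T := Module.Flat.trans R (Localization.AtPrime q) T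
  haveI : IsLocalHom (algebraMap R (Localization.AtPrime q)) := ⟨fun a ha ↦ by
    by_contra h
    rw [IsScalarTower.algebraMap_apply R R' (Localization.AtPrime q)] at ha
    exact (IsLocalization.AtPrime.isUnit_to_map_iff (Localization.AtPrime q) q _).mp ha
      (hq (Ideal.mem_map_of_mem _ ((mem_maximalIdeal a).mpr h)))⟩
  haveI : IsLocalHom (algebraMap R T) := by
    rw [IsScalarTower.algebraMap_eq R (Localization.AtPrime q) T]
    exact RingHom.isLocalHom_comp _ _
  haveI := Module.FaithfullyFlat.of_flat_of_isLocalHom (A := R) (B := T)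
  let φ : minimalPrimes T → minimalPrimes R := fun Q => ⟨_, Hens.comap_mem_minimalPrimes_of_flat Q.2⟩
  have hφ : Function.Bijective φ := by
    refine ⟨fun Q Q' h => ?_, fun P => ?_⟩
    · have h0 : Q.1.comap (algebraMap R T) = Q'.1.comap (algebraMap R T) := congrArg Subtype.val h
      haveI := Q.2.1.1
      haveI := Q'.2.1.1
      haveI := subsingleton_minimalPrimes (T := T) q hq hpi (Q.1.comap (algebraMap R T))
      have hmin : ∀ Q₁ : minimalPrimes T, (Q.1.comap (algebraMap R T)).map (algebraMap R T) ≤ Q₁.1 →
          Q₁.1.map (Ideal.Quotient.mk ((Q.1.comap (algebraMap R T)).map (algebraMap R T))) ∈ minimalPrimes _ :=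
        fun Q₁ hle => by
          haveI := Q₁.2.1.1
          refine ⟨⟨Ideal.map_isPrime_of_surjective Ideal.Quotient.mk_surjective (by rwa [Ideal.mk_ker]), bot_le⟩,
            fun J hJ hJle => ?_⟩
          haveI := hJ.1
          have h2 : J.comap (Ideal.Quotient.mk _) ≤ Q₁.1 := fun z hz =>
            (Ideal.mem_quotient_iff_mem hle).1 (hJle hz)
          exact Ideal.map_le_iff_le_comap.2 (Q₁.2.2 ⟨inferInstance, bot_le⟩ h2)
      have hQ : (Q.1.comap (algebraMap R T)).map (algebraMap R T) ≤ Q.1 := Ideal.map_comap_le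
      have hQ' : (Q.1.comap (algebraMap R T)).map (algebraMap R T) ≤ Q'.1 := h0 ▸ Ideal.map_comap_le
      have h3 : (⟨_, hmin Q hQ⟩ : minimalPrimes _) = ⟨_, hmin Q' hQ'⟩ := Subsingleton.elim _ _
      refine Subtype.ext (Ideal.ext fun z => ?_)
      have h4 : Q.1.map (Ideal.Quotient.mk ((Q.1.comap (algebraMap R T)).map (algebraMap R T))) =
          Q'.1.map (Ideal.Quotient.mk ((Q.1.comap (algebraMap R T)).map (algebraMap R T))) := congrArg Subtype.val h3
      rw [← Ideal.mem_quotient_iff_mem hQ, h4, Ideal.mem_quotient_iff_mem hQ']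
    · haveI := P.2.1.1
      obtain ⟨⟨Q₀, hQ₀p⟩, hQ₀⟩ := PrimeSpectrum.comap_surjective_of_faithfullyFlat (B := T) ⟨P.1, P.2.1.1⟩
      have hc : Q₀.comap (algebraMap R T) = P.1 := congrArg PrimeSpectrum.asIdeal hQ₀
      obtain ⟨Q, hQ, hQle⟩ := Ideal.exists_minimalPrimes_le (bot_le : ⊥ ≤ Q₀)
      have h1 := Hens.comap_mem_minimalPrimes_of_flat (R := R) hQ
      exact ⟨⟨Q, hQ⟩, Subtype.ext (le_antisymm (hc ▸ Ideal.comap_mono hQle)
        (P.2.2 ⟨h1.1.1, bot_le⟩ (hc ▸ Ideal.comap_mono hQle)))⟩
  exact (Set.encard_congr (Equiv.ofBijective φ hφ)).symm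

end Groth.Agent.SmoothBr
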